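import Cfsg.Agent.Co1R.P
import Cfsg.Agent.Co1R.D35
import Cfsg.Agent.Co1T.Main

/-! Transport of the elements `3A`, `5A` of `Co₁` to a group with a frame (`pull`, `conjD`), and the centraliser of the
centraliser of the `A₅` containing a `5A` element (`cent_cent`) (helper23). -/

set_option autoImplicit false
set_option linter.unusedSectionVars false

namespace Cfsg.Agent.Co1R

open Cfsg.Agent.Geom Cfsg.Agent.Geom.Formed Cfsg.Agent.Co1A Cfsg.Agent.BG Cfsg.Agent.LES Cfsg.Agent.Mon Cfsg.Agent.Co1T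
  QuadraticMap Subgroup Module

variable {G : Type*} [Group G] [Finite G] {z a : G} {Q : Subgroup G} {p : G → W} {μ : C1[z] →* O8} (F : Fr z Q p μ)
include F

theorem le_Q {P : Subgroup G} (h1 : P ≤ C1[z]) (h2 : ∀ h ∈ C1[z], ∀ x ∈ P, h * x * h⁻¹ ∈ P) (h3 : IsPGroup 2 P) : P ≤ Q := by
  have := CTh.simple_Om
  have n : (((P.subgroupOf C1[z]).map μ).subgroupOf Om).Normal := ⟨by
    rintro ⟨_, _⟩ ⟨x, hx, rfl⟩ ⟨g, hg⟩
    obtain ⟨g, rfl⟩ := F.lift hg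
    exact ⟨g * x * g⁻¹, h2 _ g.2 _ hx, by simp⟩⟩
  rcases n.eq_bot_or_eq_top with e | e
  · exact fun x hx => (F.ker ⟨x, h1 hx⟩).1
      (congrArg Subtype.val (mem_bot.1 (e.le (x := ⟨_, F.mem ⟨x, h1 hx⟩⟩) ⟨_, hx, rfl⟩)))
  · obtain ⟨n, hn⟩ := (IsPGroup.iff_card (p := 2) (G := Om)).1 fun g => by
      obtain ⟨x, hx, e⟩ := e.ge (mem_top g)
      obtain ⟨n, hn⟩ := h3 ⟨x, hx⟩
      exact ⟨n, Subtype.ext (by
        rw [coe_pow, ← show μ x = g from e, ← map_pow, show x ^ 2 ^ n = 1 from Subtype.ext (congrArg Subtype.val hn :), map_one]; rfl)⟩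
    rw [card_Om] at hn
    exact absurd (Nat.prime_three.dvd_of_dvd_pow (hn ▸ (by decide : 3 ∣ 174182400))) (by decide)

theorem conjD (hf : ∃ u ∈ Q, IsConj z u ∧ u ≠ z) {r d : ℕ} {α : O8} (hp : r.Prime) (p2 : r ≠ 2)
    (hc : ∀ {β : O8}, β ^ r = 1 → β ≠ 1 → ∀ {U : Submodule (ZMod 2) W}, (∀ w ∈ U, β.1 w = w) → d ≤ finrank (ZMod 2) U →
      ∃ σ ∈ Om, σ * β * σ⁻¹ = α) {b : CC} (hb : b ∈ C1[z0]) (ob : orderOf b = r) (cb : 2 * 2 ^ d ≤ #(C1[b] ⊓ Q0 : Subgroup CC))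
    (ha : a ∈ C1[z]) (oa : orderOf a = r) (e : μ ⟨a, ha⟩ = α) : ∃ f : CC ≃* G, f b = a := by
  obtain ⟨g, hg⟩ := main_fr F hf
  have k : ∀ x, g x ∈ C1[z0] ↔ x ∈ C1[z] := fun x => by
    rw [mem_cent1, mem_cent1, ← hg, ← map_mul, ← map_mul, g.injective.eq_iff]
  have l : Q0.comap g.toMonoidHom ≤ Q := le_Q F (fun x hx => (k x).1 (Q0_le_H0 hx))
    (fun h hh x hx => by simpa using CTh.le0.conj_mem (mem_cent1.1 ((k h).2 hh)) hx) (CTh.le0.pg.comap_of_injective _ g.injective)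
  have m : g.symm b ∈ C1[z] := (k _).1 (by simpa using hb)
  have o : orderOf (g.symm b) = r := (g.symm.orderOf_eq b).trans ob
  obtain ⟨U, h1, h2⟩ := fixU F m (d := d) (cb.trans ((card_map_of_injective (f := g.symm.toMonoidHom) g.symm.injective).ge.trans
    (card_le_card (by
      rintro _ ⟨x, hx, rfl⟩
      exact ⟨mem_cent1.2 (Commute.map (mem_cent1.1 hx.1) g.symm), l (by simpa using hx.2)⟩))))
  obtain ⟨h, -, e⟩ := conj_of F hp p2 m ha (o ▸ pow_orderOf_eq_one _) (oa ▸ pow_orderOf_eq_one _)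
    (hc (mu_ne F hp p2 o m).1 (mu_ne F hp p2 o m).2 h1 h2) e
  exact ⟨g.symm.trans (MulAut.conj h⁻¹), by simp [← e, mul_assoc]⟩

theorem card_cc (ha : a ∈ C1[z]) (e : μ ⟨a, ha⟩ = α5) (ho : orderOf a = 5) {Y : Subgroup G} (hz : z ∉ Y) (aY : a ∈ Y)
    (h1 : Y ≤ C1[z]) (h2 : ∀ y ∈ Y, ∀ q ∈ Q ⊓ C[zpowers a], Commute y q) : #Y ≤ 60 := by
  let ν : Y →* O8 := μ.comp (inclusion h1)
  have f5 : ∀ y v, (ν y).1 (ι5 v) = ι5 v := fun y => fix_ι F std5 ha e Nat.prime_five (by decide) ho (y := ⟨y, h1 y.2⟩)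
    fun q hq => .inl (cj_eq_iff_comm.2 (h2 _ y.2 q hq))
  let K : Subgroup O8 := ⨅ v, MulAction.stabilizer O8 (ι5 v)
  have s : ∀ y, ν y ∈ St ι1 π1 := fun y w => by
    rw [perp51, perp51]
    exact forall_congr' fun v => by rw [← Bg (ν y) (ι5 v) w, f5]
  have i : ∀ g : O8, (∀ v, g.1 (ι5 v) = ι5 v) → (∀ v, g.1 (ι1 v) = ι1 v) → g = 1 := fun g a b => OG.ext fun w => by
    rw [← sum51 w, map_add, a, b]; rfl
  rw [← card_L1]
  refine Nat.card_le_card_of_injective ((spl1.res.comp (ν.codRestrict _ s)).codRestrict _ fun y =>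
    (spl1.res_om (K := K) (fun v => mem_iInf.2 fun u => ?_) fun g hg h => i g (mem_iInf.1 hg) h ▸ one_mem _).le
      ⟨⟨ν y, s y⟩, ⟨mem_iInf.2 (f5 y), F.mem _⟩, rfl⟩) ((injective_iff_map_eq_one _).2 fun y hy => ?_)
  · show (refl S (ι1 v)).1 (ι5 u) = ι5 u
    rw [refl_apply, polar_comm, show polar S (ι5 u) (ι1 v) = 0 from (perp51 _).1 (by rw [spl1.pi]) u]; simp
  · have q : y.1 ∈ Q := (F.ker ⟨y, h1 y.2⟩).1 (i _ (f5 y) (spl1.res_eq.1 (congrArg Subtype.val hy)))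
    by_contra n
    obtain ⟨j, -, k⟩ := std5.orb (p y) (by
        rw [(S0 (by decide)).2 rfl, F.sq q]
        exact (F.es.sq _ q).resolve_right fun e => hz (e ▸ Y.mul_mem y.2 y.2))
      (fun e => ((F.p0 q).1 e).elim (fun e => n (Subtype.ext e)) fun e => hz (e ▸ y.2)) fun v => by
        obtain ⟨t, ht, e⟩ := ex_ι F std5 ha e Nat.prime_five (by decide) ho v
        rw [← e, F.comm ht.1 q]; exact (h2 _ y.2 t ht).symm
    have m := F.conj ⟨a, ha⟩ q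
    have m' : a * y * a⁻¹ ∈ Y := Y.mul_mem (Y.mul_mem aY y.2) (Y.inv_mem aY)
    have := (F.comm q m).2 (cj_eq_iff_comm.1 ((F.es.comm _ q _ m).resolve_right fun e => hz ((Y.mul_mem_cancel_left m').1
      (e ▸ Y.mul_mem (Y.mul_mem y.2 m') (Y.inv_mem y.2)))))
    rw [F.act _ _ q, e, k, ← comm_ap ((Commute.refl α5).pow_left j), Bg] at this
    exact absurd (this.symm.trans (by simpa using std5.gram 0 1)) (by decide)

end Cfsg.Agent.Co1R
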